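import Cfsg.Agent.LocalFlavell.PrimeChain.Chain

/-!
A subgroup meeting its translate under an automorphism in a normal subgroup of prime index of the
translate, with no invariant normal subgroup, is spanned by a chain of translates of one element.
-/

set_option autoImplicit false

namespace Cfsg.Agent.LocalFlavell.PrimeChain

variable {G : Type*} [Group G]

theorem Chain.commute_X (C : Chain G) {k : ℕ} (hcomm : ∀ d < k, Commute C.x (C.X d)) {i j : ℕ}
    (h1 : i < j + k) (h2 : j < i + k) : Commute (C.X i) (C.X j) := by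
  wlog hij : i ≤ j generalizing i j with H
  · exact (H h2 h1 (by omega)).symm
  obtain ⟨d, rfl⟩ := Nat.exists_eq_add_of_le hij
  have := (hcomm d (by omega)).map (C.φ ^ i)
  rwa [← C.X_zero, ← C.X_add, ← C.X_add, Nat.add_zero] at this

theorem Chain.X_ne_one [Finite G] (C : Chain G) (hs : 1 ≤ C.s) (i : ℕ) : C.X i ≠ 1 := fun h =>
  C.X_notMem_left (a := i) (m := 0) hs (h.symm ▸ one_mem _)

/-- `A` is a normal subgroup of `B`. -/
def Nm (A B : Subgroup G) : Prop := A ≤ B ∧ ∀ a ∈ A, ∀ b ∈ B, b * a * b⁻¹ ∈ A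

theorem Nm.normal {A B : Subgroup G} (h : Nm A B) : (A.subgroupOf B).Normal :=
  ⟨fun a ha b => h.2 a ha b b.2⟩

theorem Nm.relIndex_dvd {A B C : Subgroup G} (h : Nm A B) (hC : C ≤ B) :
    A.relIndex C ∣ A.relIndex B := by
  haveI := h.normal
  rw [← Subgroup.relIndex_subgroupOf hC]
  exact Subgroup.relIndex_dvd_index_of_normal _ _

theorem eq_of_relIndex_prime {p : ℕ} (hp : p.Prime) {A B C : Subgroup G} (h1 : A ≤ B) (h2 : B ≤ C)
    (hA : A.relIndex C = p) (hne : ¬ B ≤ A) : B = C := by
  have h := Subgroup.relIndex_mul_relIndex A B C h1 h2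
  rw [hA] at h
  rcases hp.eq_one_or_self_of_dvd _ (Dvd.intro _ h) with h3 | h3
  · exact absurd (Subgroup.relIndex_eq_one.mp h3) hne
  · rw [h3] at h
    refine le_antisymm h2 (Subgroup.relIndex_eq_one.mp ?_)
    exact (mul_eq_left₀ hp.ne_zero).mp h

/-- The intersections of the inverse translates of `P`. -/
def K (φ : MulAut G) (P : Subgroup G) : ℕ → Subgroup G
  | 0 => P
  | j + 1 => P ⊓ (K φ P j).comap φ.toMonoidHom

theorem mem_K_succ {φ : MulAut G} {P : Subgroup G} {v : G} {j : ℕ} :
    v ∈ K φ P (j + 1) ↔ v ∈ P ∧ φ v ∈ K φ P j := Iff.rfl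

theorem K_le (φ : MulAut G) (P : Subgroup G) (j : ℕ) : K φ P j ≤ P := by
  cases j with
  | zero => exact le_rfl
  | succ j => exact inf_le_left

theorem K_succ_le (φ : MulAut G) (P : Subgroup G) : ∀ j, K φ P (j + 1) ≤ K φ P j
  | 0 => inf_le_left
  | j + 1 => inf_le_inf_left _ (Subgroup.comap_mono (K_succ_le φ P j))

theorem exists_chain [Finite G] (φ : MulAut G) (P : Subgroup G) {p : ℕ} (hp : p.Prime)
    (hN : Nm (P ⊓ P.map φ.toMonoidHom) (P.map φ.toMonoidHom))
    (hidx : (P ⊓ P.map φ.toMonoidHom).relIndex (P.map φ.toMonoidHom) = p)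
    (h1 : ∀ Q : Subgroup G, Q ≤ P → (Q.subgroupOf P).Normal → Q.map φ.toMonoidHom = Q → Q = ⊥) :
    ∃ C : Chain G, C.φ = φ ∧ C.p = p ∧ C.E 0 C.s = P ∧ 1 ≤ C.s := by
  classical
  have hmap1 : (K φ P 1).map φ.toMonoidHom = P ⊓ P.map φ.toMonoidHom := by
    show (P ⊓ P.comap φ.toMonoidHom).map φ.toMonoidHom = _
    rw [Subgroup.map_inf_eq _ _ _ φ.injective,
      Subgroup.map_comap_eq_self_of_surjective φ.surjective, inf_comm]
  have hnm : ∀ j, Nm (K φ P (j + 1)) (K φ P j) := by
    intro j
    induction j with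
    | zero =>
      refine ⟨K_succ_le φ P 0, fun a ha b hb => mem_K_succ.mpr
        ⟨mul_mem (mul_mem hb (K_le φ P 1 ha)) (inv_mem hb), ?_⟩⟩
      have := hN.2 (φ a) (hmap1.le ⟨a, ha, rfl⟩) (φ b) ⟨b, hb, rfl⟩
      rw [map_mul, map_mul, map_inv]
      exact this.1
    | succ j ih =>
      refine ⟨K_succ_le φ P _, fun a ha b hb => mem_K_succ.mpr ?_⟩
      rw [mem_K_succ] at ha hb
      refine ⟨mul_mem (mul_mem hb.1 ha.1) (inv_mem hb.1), ?_⟩
      rw [map_mul, map_mul, map_inv]
      exact ih.2 _ ha.2 _ hb.2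
  have hidx1 : (K φ P 1).relIndex (K φ P 0) = p := by
    rw [← hidx, ← hmap1]
    exact (Subgroup.relIndex_map_map_of_injective (f := φ.toMonoidHom) (K φ P 1) P φ.injective).symm
  have hdvd : ∀ j, (K φ P (j + 1)).relIndex (K φ P j) ∣ p := by
    intro j
    induction j with
    | zero => rw [hidx1]
    | succ j ih =>
      refine dvd_trans ?_ ih
      have h2 : K φ P (j + 2) = (K φ P (j + 1)).comap φ.toMonoidHom ⊓ K φ P (j + 1) :=
        le_antisymm (le_inf inf_le_right (K_succ_le φ P _))
          (le_inf (inf_le_right.trans (K_le φ P _)) inf_le_left)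
      rw [h2, Subgroup.inf_relIndex_right, Subgroup.relIndex_comap]
      refine (hnm j).relIndex_dvd (Subgroup.map_le_iff_le_comap.mpr fun v hv => ?_)
      exact (mem_K_succ.mp hv).2
  have hstep : ∀ j, K φ P (j + 1) ≠ K φ P j → (K φ P (j + 1)).relIndex (K φ P j) = p := fun j hj =>
    (hp.eq_one_or_self_of_dvd _ (hdvd j)).resolve_left
      fun h => hj (le_antisymm (K_succ_le φ P j) (Subgroup.relIndex_eq_one.mp h))
  have hex : ∃ j, K φ P (j + 1) = K φ P j := by
    by_contra h
    push Not at h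
    have hd : ∀ j, Nat.card (K φ P j) + j ≤ Nat.card (K φ P 0) := by
      intro j
      induction j with
      | zero => exact le_rfl
      | succ j ih =>
        have : Nat.card (K φ P (j + 1)) < Nat.card (K φ P j) := lt_of_le_of_ne
          (Subgroup.card_le_of_le (K_succ_le φ P j))
          fun e => h j (Subgroup.eq_of_le_of_card_ge (K_succ_le φ P j) e.ge)
        omega
    have := hd (Nat.card (K φ P 0) + 1)
    omega
  set s := Nat.find hex
  have hs : K φ P (s + 1) = K φ P s := Nat.find_spec hex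
  have hrel : ∀ j < s, (K φ P (j + 1)).relIndex (K φ P j) = p := fun j hj =>
    hstep j (Nat.find_min hex hj)
  have hcardeq : ∀ j < s, Nat.card (K φ P j) = p * Nat.card (K φ P (j + 1)) := by
    intro j hj
    have h := Subgroup.relIndex_mul_relIndex ⊥ (K φ P (j + 1)) (K φ P j) bot_le (K_succ_le φ P j)
    rw [Subgroup.relIndex_bot_left, Subgroup.relIndex_bot_left, hrel j hj] at h
    rw [← h, mul_comm]
  set Q := K φ P s with hQ
  have hQsub : ∀ v ∈ Q, φ v ∈ Q := fun v hv => (mem_K_succ.mp (hs.ge hv)).2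
  have hQφ : Q.map φ.toMonoidHom = Q := by
    refine Subgroup.eq_of_le_of_card_ge (Subgroup.map_le_iff_le_comap.mpr hQsub) ?_
    rw [Subgroup.card_map_of_injective φ.injective]
  have hspos : 1 ≤ s := by
    by_contra h
    have hs0 : s = 0 := by omega
    rw [hQ, hs0] at hs
    rw [hs, Subgroup.relIndex_self] at hidx1
    exact hp.ne_one hidx1.symm
  obtain ⟨x, hxK, hxQ⟩ : ∃ x ∈ K φ P (s - 1), x ∉ Q := by
    by_contra h
    push Not at h
    have hj := hrel (s - 1) (by omega)
    rw [Nat.sub_add_cancel hspos, Subgroup.relIndex_eq_one.mpr h] at hj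
    exact hp.ne_one hj.symm
  let X : ℕ → G := fun i => (φ ^ i) x
  have hXsucc : ∀ i, X (i + 1) = φ (X i) := fun i => by
    show (φ ^ (i + 1)) x = _
    rw [pow_succ', MulAut.mul_apply]
  have hXmem : ∀ i < s, X i ∈ K φ P (s - 1 - i) := by
    intro i
    induction i with
    | zero => intro _; show x ∈ _; simpa using hxK
    | succ i ih =>
      intro hi
      have h := ih (by omega)
      rw [show s - 1 - i = s - 1 - (i + 1) + 1 by omega, mem_K_succ] at h
      rw [hXsucc]
      exact h.2
  have hXnot : ∀ i < s, X i ∉ K φ P (s - i) := by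
    intro i
    induction i with
    | zero => intro _; show x ∉ _; simpa using hxQ
    | succ i ih =>
      intro hi h
      rw [hXsucc] at h
      refine ih (by omega) ?_
      rw [show s - i = s - (i + 1) + 1 by omega, mem_K_succ]
      exact ⟨K_le φ P _ (hXmem i (by omega)), h⟩
  have hgen : ∀ m ≤ s, K φ P (s - m) = Subgroup.closure (X '' Set.Ico 0 m) ⊔ Q := by
    intro m
    induction m with
    | zero => intro _; simp [hQ]
    | succ m ih =>
      intro hm
      have h1 := ih (by omega)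
      have hj : s - m = s - (m + 1) + 1 := by omega
      have hsub : K φ P (s - m) ≤ K φ P (s - (m + 1)) := by rw [hj]; exact K_succ_le φ P _
      have hup : K φ P (s - m) ≤ Subgroup.closure (X '' Set.Ico 0 (m + 1)) ⊔ Q :=
        h1.le.trans (sup_le_sup_right
          (Subgroup.closure_mono (Set.image_mono (Set.Ico_subset_Ico_right (Nat.le_succ m)))) _)
      refine (eq_of_relIndex_prime hp hup ?_ (by rw [hj]; exact hrel _ (by omega)) ?_).symm
      · refine sup_le ((Subgroup.closure_le _).mpr ?_) ((le_sup_right.trans h1.ge).trans hsub)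
        rintro _ ⟨i, ⟨-, hi⟩, rfl⟩
        rcases (show i < m ∨ i = m by omega) with hi' | rfl
        · exact hsub (h1.ge (Subgroup.mem_sup_left (Subgroup.subset_closure ⟨i, ⟨by omega, hi'⟩, rfl⟩)))
        · rw [show s - (i + 1) = s - 1 - i by omega]
          exact hXmem i (by omega)
      · intro hle
        exact hXnot m (by omega) (hle (Subgroup.mem_sup_left
          (Subgroup.subset_closure ⟨m, ⟨by omega, by omega⟩, rfl⟩)))
  have hw : ∀ w, φ w ∈ Q ↔ w ∈ Q := fun w => by
    refine ⟨fun h => ?_, hQsub w⟩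
    obtain ⟨u, hu, hue⟩ := hQφ.ge h
    rwa [← φ.injective hue]
  have hnormX : ∀ i, X i ∈ Subgroup.normalizer (Q : Set G) := by
    intro i
    induction i with
    | zero =>
      show x ∈ _
      have h := hnm (s - 1)
      rw [Nat.sub_add_cancel hspos] at h
      haveI := h.normal
      exact Subgroup.le_normalizer_of_normal_subgroupOf h.1 hxK
    | succ i ih =>
      rw [hXsucc]
      rw [Subgroup.mem_normalizer_iff] at ih ⊢
      intro v
      obtain ⟨u, rfl⟩ := φ.surjective v
      rw [← map_inv, ← map_mul, ← map_mul, hw, hw]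
      exact ih u
  have hP0 : P = Subgroup.closure (X '' Set.Ico 0 s) ⊔ Q := by
    have h := hgen s le_rfl
    rwa [Nat.sub_self] at h
  have hPN : P ≤ Subgroup.normalizer (Q : Set G) := by
    rw [hP0]
    refine sup_le ((Subgroup.closure_le _).mpr ?_) Subgroup.le_normalizer
    rintro _ ⟨i, -, rfl⟩
    exact hnormX i
  have hQ1 : Q = ⊥ := h1 Q (K_le φ P s)
    ((Subgroup.normal_subgroupOf_iff_le_normalizer (K_le φ P s)).mpr hPN) hQφ
  have hcardX : ∀ m ≤ s, Nat.card (Subgroup.closure (X '' Set.Ico 0 m)) = p ^ m := by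
    intro m hm
    have h1 : K φ P (s - m) = Subgroup.closure (X '' Set.Ico 0 m) := by
      rw [hgen m hm, hQ1, sup_bot_eq]
    rw [← h1]
    clear h1
    induction m with
    | zero => rw [Nat.sub_zero, ← hQ, hQ1, Subgroup.card_bot, pow_zero]
    | succ m ih =>
      rw [hcardeq _ (by omega), show s - (m + 1) + 1 = s - m by omega, ih (by omega), pow_succ']
  refine ⟨{ φ := φ, x := x, p := p, s := s, hp := hp, card0 := hcardX }, rfl, rfl, ?_, hspos⟩
  rw [hP0, hQ1, sup_bot_eq]
  show Subgroup.closure (X '' Set.Ico 0 (0 + s)) = _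
  rw [Nat.zero_add]

end Cfsg.Agent.LocalFlavell.PrimeChain
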