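import Mathlib
import Cfsg.Agent.Lib.Coprime.Basic

/-!
A `p`-group spanned by translates of an element of order `p` under an automorphism, each new translate
multiplying the order by `p`: the commutator of the first two non-commuting translates is spread out.
-/

set_option autoImplicit false

namespace Cfsg.Agent.LocalFlavell.PrimeChain

open scoped commutatorElement

variable {G : Type*} [Group G]

/-- `s` translates of `x` under `φ`, any `m` consecutive of them spanning order `p ^ m`. -/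
structure Chain (G : Type*) [Group G] where
  φ : MulAut G
  x : G
  p : ℕ
  s : ℕ
  hp : p.Prime
  card0 : ∀ m ≤ s, Nat.card (Subgroup.closure ((fun i : ℕ => (φ ^ i) x) '' Set.Ico 0 m)) = p ^ m

theorem normal_of_card [Finite G] {p m : ℕ} (hp : p.Prime) {A B : Subgroup G} (h : A ≤ B)
    (hA : Nat.card A = p ^ m) (hB : Nat.card B = p ^ (m + 1)) : (A.subgroupOf B).Normal := by
  haveI : Fact p.Prime := ⟨hp⟩
  have h1 := (A.subgroupOf B).card_mul_index
  rw [Nat.card_congr (Subgroup.subgroupOfEquivOfLe h).toEquiv, hA, hB, pow_succ] at h1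
  refine Subgroup.normal_of_index_eq_minFac_card ?_
  rw [Nat.eq_of_mul_eq_mul_left (pow_pos hp.pos m) h1, hB, Nat.pow_minFac (Nat.succ_ne_zero m), hp.minFac_eq]

namespace Chain

variable (C : Chain G)

/-- The `i`-th translate. -/
def X (i : ℕ) : G := (C.φ ^ i) C.x

/-- The span of `m` consecutive translates from `a`. -/
def E (a m : ℕ) : Subgroup G := Subgroup.closure (C.X '' Set.Ico a (a + m))

theorem X_zero : C.X 0 = C.x := by rw [X, pow_zero, MulAut.one_apply]

theorem X_add (d i : ℕ) : C.X (d + i) = (C.φ ^ d) (C.X i) := by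
  rw [X, X, pow_add, MulAut.mul_apply]

theorem X_mem {a m i : ℕ} (h1 : a ≤ i) (h2 : i < a + m) : C.X i ∈ C.E a m :=
  Subgroup.subset_closure ⟨i, ⟨h1, h2⟩, rfl⟩

theorem E_le_of {a m : ℕ} {K : Subgroup G} (h : ∀ i, a ≤ i → i < a + m → C.X i ∈ K) : C.E a m ≤ K := by
  refine (Subgroup.closure_le _).mpr ?_
  rintro _ ⟨i, ⟨h1, h2⟩, rfl⟩
  exact h i h1 h2

theorem E_le {a m a' m' : ℕ} (h1 : a' ≤ a) (h2 : a + m ≤ a' + m') : C.E a m ≤ C.E a' m' :=
  C.E_le_of fun i hi1 hi2 => C.X_mem (h1.trans hi1) (lt_of_lt_of_le hi2 h2)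

theorem E_zero (a : ℕ) : C.E a 0 = ⊥ := le_bot_iff.mp (C.E_le_of fun i h1 h2 => by omega)

theorem commute_E {a m : ℕ} {z g : G} (h : ∀ i, a ≤ i → i < a + m → Commute z (C.X i)) (hg : g ∈ C.E a m) :
    Commute z g :=
  (Subgroup.mem_centralizer_singleton_iff.mp ((C.E_le_of (K := Subgroup.centralizer {z})
    fun i h1 h2 => Subgroup.mem_centralizer_singleton_iff.mpr (h i h1 h2).eq.symm) hg)).symm

theorem map_E (d a m : ℕ) : (C.E a m).map (C.φ ^ d).toMonoidHom = C.E (d + a) m := by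
  rw [E, E, MonoidHom.map_closure, ← Set.image_comp]
  congr 1
  ext z
  constructor
  · rintro ⟨i, ⟨h1, h2⟩, rfl⟩
    exact ⟨d + i, ⟨by omega, by omega⟩, C.X_add d i⟩
  · rintro ⟨i, ⟨h1, h2⟩, rfl⟩
    refine ⟨i - d, ⟨by omega, by omega⟩, ?_⟩
    show (C.φ ^ d) (C.X (i - d)) = C.X i
    rw [← C.X_add, Nat.add_sub_cancel' (by omega)]

theorem card_E {a m : ℕ} (hm : m ≤ C.s) : Nat.card (C.E a m) = C.p ^ m := by
  rw [← Nat.add_zero a, ← C.map_E, Subgroup.card_map_of_injective (C.φ ^ a).injective, E, Nat.zero_add]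
  exact C.card0 m hm

variable [Finite G]

theorem not_le {a m a' : ℕ} (hm : m + 1 ≤ C.s) : ¬ C.E a (m + 1) ≤ C.E a' m := by
  intro h
  have := Subgroup.card_le_of_le h
  rw [C.card_E hm, C.card_E (by omega)] at this
  exact absurd this (not_le_of_gt (Nat.pow_lt_pow_right C.hp.one_lt (Nat.lt_succ_self m)))

theorem X_notMem_right {a m : ℕ} (hm : m + 1 ≤ C.s) : C.X (a + m) ∉ C.E a m := fun h =>
  C.not_le (a := a) (a' := a) hm (C.E_le_of fun i h1 h2 => by
    rcases (show i < a + m ∨ i = a + m by omega) with h3 | rfl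
    · exact C.X_mem h1 h3
    · exact h)

theorem X_notMem_left {a m : ℕ} (hm : m + 1 ≤ C.s) : C.X a ∉ C.E (a + 1) m := fun h =>
  C.not_le (a := a) (a' := a + 1) hm (C.E_le_of fun i h1 h2 => by
    rcases (show a + 1 ≤ i ∨ i = a by omega) with h3 | rfl
    · exact C.X_mem h3 (by omega)
    · exact h)

theorem normal_right {a m : ℕ} (hm : m + 1 ≤ C.s) : ((C.E a m).subgroupOf (C.E a (m + 1))).Normal :=
  normal_of_card C.hp (C.E_le le_rfl (by omega)) (C.card_E (by omega)) (C.card_E hm)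

theorem normal_left {a m : ℕ} (hm : m + 1 ≤ C.s) :
    ((C.E (a + 1) m).subgroupOf (C.E a (m + 1))).Normal :=
  normal_of_card C.hp (C.E_le (by omega) (by omega)) (C.card_E (by omega)) (C.card_E hm)

theorem decomp_right {a m : ℕ} (hm : m + 1 ≤ C.s) {z : G} (hz : z ∈ C.E a (m + 1)) :
    ∃ y ∈ C.E a m, ∃ e : ℤ, z = y * C.X (a + m) ^ e := by
  have hle : C.E a (m + 1) ≤ C.E a m ⊔ Subgroup.zpowers (C.X (a + m)) := C.E_le_of fun i h1 h2 => by
    rcases (show i < a + m ∨ i = a + m by omega) with h3 | rfl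
    · exact Subgroup.mem_sup_left (C.X_mem h1 h3)
    · exact Subgroup.mem_sup_right (Subgroup.mem_zpowers _)
  haveI := C.normal_right (a := a) hm
  have hn : Subgroup.zpowers (C.X (a + m)) ≤ Subgroup.normalizer (C.E a m : Set G) :=
    (Subgroup.zpowers_le.mpr (C.X_mem (a := a) (m := m + 1) (by omega) (by omega))).trans
      (Subgroup.le_normalizer_of_normal_subgroupOf (C.E_le le_rfl (by omega)))
  obtain ⟨y, hy, u, hu, rfl⟩ := (Coprime.mem_sup_of_le_normalizer hn).mp (hle hz)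
  obtain ⟨e, rfl⟩ := Subgroup.mem_zpowers_iff.mp hu
  exact ⟨y, hy, e, rfl⟩

theorem decomp_left {a m : ℕ} (hm : m + 1 ≤ C.s) {z : G} (hz : z ∈ C.E a (m + 1)) :
    ∃ y ∈ C.E (a + 1) m, ∃ e : ℤ, z = C.X a ^ e * y := by
  have hle : C.E a (m + 1) ≤ C.E (a + 1) m ⊔ Subgroup.zpowers (C.X a) := C.E_le_of fun i h1 h2 => by
    rcases (show a + 1 ≤ i ∨ i = a by omega) with h3 | rfl
    · exact Subgroup.mem_sup_left (C.X_mem h3 (by omega))
    · exact Subgroup.mem_sup_right (Subgroup.mem_zpowers _)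
  haveI := C.normal_left (a := a) hm
  have hn : Subgroup.zpowers (C.X a) ≤ Subgroup.normalizer (C.E (a + 1) m : Set G) :=
    (Subgroup.zpowers_le.mpr (C.X_mem (a := a) (m := m + 1) le_rfl (by omega))).trans
      (Subgroup.le_normalizer_of_normal_subgroupOf (C.E_le (by omega) (by omega)))
  obtain ⟨y, hy, u, hu, e0⟩ := (Coprime.mem_sup_of_le_normalizer hn).mp (hle (inv_mem hz))
  obtain ⟨e, rfl⟩ := Subgroup.mem_zpowers_iff.mp hu
  refine ⟨y⁻¹, inv_mem hy, -e, ?_⟩
  rw [zpow_neg, ← mul_inv_rev, e0, inv_inv]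

theorem self_of_zpow {a m i : ℕ} {e : ℤ} (_hi : C.X i ∉ C.E a m) (hnot : C.X i ^ e ∉ C.E a m)
    (hs : 1 ≤ C.s) : C.X i ∈ Subgroup.zpowers (C.X i ^ e) := by
  have hc : Nat.card (Subgroup.zpowers (C.X i)) = C.p := by
    have h := C.card_E (a := i) (m := 1) hs
    rw [pow_one] at h
    rwa [show C.E i 1 = Subgroup.zpowers (C.X i) from by
      rw [E, show Set.Ico i (i + 1) = {i} by ext; simp; omega, Set.image_singleton,
        Subgroup.zpowers_eq_closure]] at h
  haveI : Fact C.p.Prime := ⟨C.hp⟩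
  have h := mem_zpowers_of_prime_card (g := (⟨C.X i ^ e, Subgroup.zpow_mem_zpowers _ e⟩ :
    Subgroup.zpowers (C.X i))) (g' := ⟨C.X i, Subgroup.mem_zpowers _⟩) hc
    (fun h => hnot (by rw [show C.X i ^ e = 1 from congrArg Subtype.val h]; exact one_mem _))
  obtain ⟨j, hj⟩ := Subgroup.mem_zpowers_iff.mp h
  exact Subgroup.mem_zpowers_iff.mpr ⟨j, by simpa using congrArg Subtype.val hj⟩

theorem top {a : ℕ} : ∀ {m : ℕ}, m ≤ C.s → ∀ {z : G}, z ∈ C.E a m → z ≠ 1 →
    ∃ b, a ≤ b ∧ b < a + m ∧ ∃ y ∈ C.E a (b - a), ∃ e : ℤ, z = y * C.X b ^ e ∧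
      C.X b ∈ Subgroup.zpowers (C.X b ^ e) := by
  intro m
  induction m with
  | zero =>
    intro _ z hz h1
    rw [C.E_zero, Subgroup.mem_bot] at hz
    exact absurd hz h1
  | succ m ih =>
    intro hm z hz h1
    obtain ⟨y, hy, e, rfl⟩ := C.decomp_right hm hz
    by_cases he : C.X (a + m) ^ e ∈ C.E a m
    · obtain ⟨b, hb1, hb2, hb3⟩ := ih (by omega) (mul_mem hy he) h1
      exact ⟨b, hb1, by omega, hb3⟩
    · exact ⟨a + m, by omega, by omega, y, by rwa [Nat.add_sub_cancel_left], e, rfl,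
        C.self_of_zpow (C.X_notMem_right hm) he (by omega)⟩

theorem bot : ∀ {m a : ℕ}, m ≤ C.s → ∀ {z : G}, z ∈ C.E a m → z ≠ 1 →
    ∃ i, a ≤ i ∧ i < a + m ∧ ∃ y ∈ C.E (i + 1) (a + m - i - 1), ∃ e : ℤ, z = C.X i ^ e * y ∧
      C.X i ∈ Subgroup.zpowers (C.X i ^ e) := by
  intro m
  induction m with
  | zero =>
    intro a _ z hz h1
    rw [C.E_zero, Subgroup.mem_bot] at hz
    exact absurd hz h1
  | succ m ih =>
    intro a hm z hz h1
    obtain ⟨y, hy, e, rfl⟩ := C.decomp_left hm hz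
    by_cases he : C.X a ^ e ∈ C.E (a + 1) m
    · obtain ⟨i, hi1, hi2, hi3⟩ := ih (by omega) (mul_mem he hy) h1
      exact ⟨i, by omega, by omega, by rwa [show a + (m + 1) - i - 1 = a + 1 + m - i - 1 by omega]⟩
    · exact ⟨a, le_rfl, by omega, y, by rwa [show a + (m + 1) - a - 1 = m by omega], e, rfl,
        C.self_of_zpow (C.X_notMem_left hm) he (by omega)⟩

theorem inter {a m : ℕ} (hm : m + 2 ≤ C.s) {z : G} (h1 : z ∈ C.E a (m + 1))
    (h2 : z ∈ C.E (a + 1) (m + 1)) : z ∈ C.E (a + 1) m := by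
  obtain ⟨y, hy, e, rfl⟩ := C.decomp_left (a := a) (m := m) (by omega) h1
  by_cases he : C.X a ^ e ∈ C.E (a + 1) (m + 1)
  · by_cases he' : C.X a ^ e ∈ C.E (a + 1) m
    · exact mul_mem he' hy
    · exfalso
      refine C.X_notMem_left (a := a) (m := m + 1) hm ?_
      exact Subgroup.zpowers_le.mpr he (C.self_of_zpow (C.X_notMem_left (by omega)) he' (by omega))
  · exact absurd ((Subgroup.mul_mem_cancel_right _ (C.E_le le_rfl (Nat.le_succ _) hy)).mp h2) he

/-- Commutators of two translates lie strictly between them. -/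
theorem comm_mem (a : ℕ) {n : ℕ} (h1 : 1 ≤ n) (hn : n + 1 ≤ C.s) {g h : G} (hg : g ∈ C.E a 1)
    (hh : h ∈ C.E (a + n) 1) : ⁅g, h⁆ ∈ C.E (a + 1) (n - 1) := by
  obtain ⟨m, rfl⟩ : ∃ m, n = m + 1 := ⟨n - 1, by omega⟩
  rw [Nat.add_sub_cancel]
  have hgT : g ∈ C.E a (m + 2) := C.E_le le_rfl (by omega) hg
  have hhT : h ∈ C.E a (m + 2) := C.E_le (by omega) (by omega) hh
  refine C.inter hn ?_ ?_
  · rw [commutatorElement_def, mul_assoc, mul_assoc, ← mul_assoc h]
    refine mul_mem (C.E_le le_rfl (by omega) hg) ?_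
    exact (C.normal_right (a := a) (m := m + 1) hn).conj_mem
      ⟨g⁻¹, inv_mem hgT⟩ (inv_mem (C.E_le le_rfl (by omega) hg)) ⟨h, hhT⟩
  · rw [commutatorElement_def]
    refine mul_mem ?_ (inv_mem (C.E_le (by omega) (by omega) hh))
    exact (C.normal_left (a := a) (m := m + 1) hn).conj_mem
      ⟨h, hhT⟩ (C.E_le (by omega) (by omega) hh) ⟨g, hgT⟩

/-- If `x` commutes with the first `k` translates and not with `X k`, then `2 s ≤ 3 k`. -/
theorem two_mul_le {k : ℕ} (hk : 1 ≤ k) (hlt : k + 1 ≤ C.s) (hcomm : ∀ d < k, Commute C.x (C.X d))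
    (hne : ¬ Commute C.x (C.X k)) : 2 * C.s ≤ 3 * k := by
  have commX : ∀ i j, i < j + k → j < i + k → Commute (C.X i) (C.X j) := by
    intro i j h1 h2
    wlog hij : i ≤ j generalizing i j with H
    · exact (H j i h2 h1 (by omega)).symm
    obtain ⟨d, rfl⟩ := Nat.exists_eq_add_of_le hij
    have := (hcomm d (by omega)).map (C.φ ^ i)
    rwa [← C.X_zero, ← C.X_add, ← C.X_add, Nat.add_zero] at this
  have neX : ∀ i, ¬ Commute (C.X i) (C.X (i + k)) := fun i h => by
    refine hne ?_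
    have := h.map (C.φ ^ i).symm
    rwa [show C.X i = (C.φ ^ i) C.x from rfl, C.X_add i k, MulEquiv.symm_apply_apply,
      MulEquiv.symm_apply_apply] at this
  have hx0 : C.x ∈ C.E 0 1 := C.X_zero ▸ C.X_mem le_rfl (by omega)
  have hwne : ⁅C.x, C.X k⁆ ≠ 1 := fun h => hne (commutatorElement_eq_one_iff_commute.mp h)
  have hw : ⁅C.x, C.X k⁆ ∈ C.E 1 (k - 1) :=
    C.comm_mem 0 hk hlt hx0 (C.X_mem (by omega) (by omega))
  obtain ⟨a, ha1, ha2, y, hy, e, hye, hea⟩ := C.bot (by omega) hw hwne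
  -- the lower end
  have hsa : C.s ≤ a + k := by
    by_contra hcon
    set i := a + k with hi
    set u := ⁅C.x⁻¹, C.X i⁆ with hu
    have hu' : u ∈ C.E 1 (i - 1) := C.comm_mem 0 (n := i) (by omega) (by omega) (inv_mem hx0)
      (C.X_mem (by omega) (by omega))
    have hku : Commute u (C.X k) :=
      (C.commute_E (fun l h1 h2 => commX k l (by omega) (by omega)) hu').symm
    have hfix : Commute (C.X i) ⁅C.x, C.X k⁆ := by
      show C.X i * _ = _ * C.X i
      rw [← mul_inv_eq_iff_eq_mul]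
      calc C.X i * ⁅C.x, C.X k⁆ * (C.X i)⁻¹
          = ⁅C.X i * C.x * (C.X i)⁻¹, C.X i * C.X k * (C.X i)⁻¹⁆ := by
            simp only [commutatorElement_def]; group
        _ = ⁅C.x * u, C.X k⁆ := by
            rw [(commX i k (by omega) (by omega)).eq, mul_inv_cancel_right,
              show C.X i * C.x * (C.X i)⁻¹ = C.x * u by rw [hu, commutatorElement_def]; group]
        _ = C.x * ⁅u, C.X k⁆ * C.x⁻¹ * ⁅C.x, C.X k⁆ := by simp only [commutatorElement_def]; group
        _ = _ := by rw [commutatorElement_eq_one_iff_commute.mpr hku, mul_one, mul_inv_cancel, one_mul]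
    have hc : Commute (C.X i) y := C.commute_E (fun l h1 h2 => commX i l (by omega) (by omega)) hy
    rw [hye] at hfix
    have h3 := hfix.mul_right hc.inv_right
    rw [mul_inv_cancel_right] at h3
    obtain ⟨j, hj⟩ := Subgroup.mem_zpowers_iff.mp hea
    exact neX a (hj ▸ h3.zpow_right j).symm
  have hwa : ⁅C.x, C.X k⁆ ∈ C.E a (k - a) := by
    rw [hye]
    exact mul_mem (zpow_mem (C.X_mem le_rfl (by omega)) e) (C.E_le (by omega) (by omega) hy)
  obtain ⟨b, hb1, hb2, y', hy', e', hye', heb⟩ := C.top (by omega) hwa hwne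
  -- the upper end
  have hsb : C.s + b ≤ 2 * k := by
    by_contra hcon
    set j := k - b with hj
    set n := j + k with hn
    set u := ⁅(C.X n)⁻¹, C.x⁆ with hu
    have hu' : u ∈ C.E 1 (n - 1) := by
      have h := inv_mem (C.comm_mem 0 (n := n) (by omega) (by omega) hx0
        (inv_mem (C.X_mem (i := n) (a := 0 + n) (m := 1) (by omega) (by omega))))
      rwa [commutatorElement_inv] at h
    have hju : Commute (C.X j) u := C.commute_E (fun l h1 h2 => commX j l (by omega) (by omega)) hu'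
    have hfix : Commute C.x ⁅C.X j, C.X n⁆ := by
      show C.x * _ = _ * C.x
      rw [← mul_inv_eq_iff_eq_mul]
      calc C.x * ⁅C.X j, C.X n⁆ * C.x⁻¹
          = ⁅C.x * C.X j * C.x⁻¹, C.x * C.X n * C.x⁻¹⁆ := by
            simp only [commutatorElement_def]; group
        _ = ⁅C.X j, C.X n * u⁆ := by
            rw [(hcomm j (by omega)).eq, mul_inv_cancel_right,
              show C.x * C.X n * C.x⁻¹ = C.X n * u by rw [hu, commutatorElement_def]; group]
        _ = ⁅C.X j, C.X n⁆ * (C.X n * ⁅C.X j, u⁆ * (C.X n)⁻¹) := by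
            simp only [commutatorElement_def]; group
        _ = _ := by rw [commutatorElement_eq_one_iff_commute.mpr hju, mul_one, mul_inv_cancel, mul_one]
    have e0 : ⁅C.X j, C.X n⁆ = (C.φ ^ j) ⁅C.x, C.X k⁆ := by
      rw [map_commutatorElement, ← C.X_zero, ← C.X_add, ← C.X_add, Nat.add_zero]
    rw [e0, hye', map_mul, map_zpow, ← C.X_add, show j + b = k by omega] at hfix
    have hmem : (C.φ ^ j) y' ∈ C.E (j + a) (b - a) := by
      rw [← C.map_E]; exact Subgroup.mem_map_of_mem _ hy'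
    have hc : Commute C.x ((C.φ ^ j) y') := C.commute_E (fun l h1 h2 => hcomm l (by omega)) hmem
    have h3 := hc.inv_right.mul_right hfix
    rw [inv_mul_cancel_left] at h3
    have heb' := Subgroup.mem_zpowers_iff.mp heb
    obtain ⟨l, hl⟩ := heb'
    have hl' := congrArg (C.φ ^ j) hl
    rw [map_zpow, map_zpow, ← C.X_add, show j + b = k by omega] at hl'
    exact hne (hl' ▸ h3.zpow_right l)
  omega

end Chain

end Cfsg.Agent.LocalFlavell.PrimeChain
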